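import Mathlib

/-!
An Euler operator modulo the square of the diagonal ideal of a smooth algebra.
-/

set_option autoImplicit false
open TensorProduct

namespace Groth.DiagIdealH

universe u v

theorem exists_euler (k : Type u) [Field k] (A : Type v) [CommRing A] [Algebra k A]
    [Algebra.Smooth k A] :
    ∃ (ι : Type v) (_ : Fintype ι) (D : ι → Derivation ℤ (A ⊗[k] A) (A ⊗[k] A))
      (x : ι → ↥(KaehlerDifferential.ideal k A)),
      ∀ f ∈ KaehlerDifferential.ideal k A,
        f - ∑ l, D l f * x l ∈ KaehlerDifferential.ideal k A ^ 2 := by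
  classical
  obtain ⟨s, hs, hspan⟩ := (Submodule.fg_span_iff_fg_span_finset_subset
    (Set.range (KaehlerDifferential.D k A))).1 (by
      rw [KaehlerDifferential.span_range_derivation]; exact Module.Finite.fg_top)
  rw [KaehlerDifferential.span_range_derivation] at hspan
  choose a ha using fun l : ↥s => hs l.2
  let L : (↥s → A) →ₗ[A] Ω[A⁄k] := Fintype.linearCombination A fun l => (l : Ω[A⁄k])
  have hL : Function.Surjective L := by
    rw [← LinearMap.range_eq_top, Fintype.range_linearCombination, hspan]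
    simp
  obtain ⟨σ, hσ⟩ := L.exists_rightInverse_of_surjective (LinearMap.range_eq_top.2 hL)
  let d : ↥s → Derivation k A A := fun l => (LinearMap.proj l ∘ₗ σ).compDer (KaehlerDifferential.D k A)
  have hd : ∀ c : A, ∑ l, d l c • (l : Ω[A⁄k]) = KaehlerDifferential.D k A c := fun c =>
    (LinearMap.congr_fun hσ (KaehlerDifferential.D k A c) :)
  let E : ↥s → A ⊗[k] A →ₗ[k] A ⊗[k] A := fun l => LinearMap.lTensor A (d l).toLinearMap
  have hE : ∀ l (p q : A ⊗[k] A), E l (p * q) = p * E l q + q * E l p := by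
    intro l p q
    induction p with
    | zero => simp
    | add p p' hp hp' => rw [add_mul, map_add, hp, hp', map_add]; ring
    | tmul p₁ p₂ =>
      induction q with
      | zero => simp
      | add q q' hq hq' => rw [mul_add, map_add, hq, hq', map_add]; ring
      | tmul q₁ q₂ =>
        simp [E, TensorProduct.tmul_add, mul_comm q₁ p₁]
  let D : ↥s → Derivation ℤ (A ⊗[k] A) (A ⊗[k] A) := fun l =>
    Derivation.mk' ((E l).toAddMonoidHom.toIntLinearMap) fun p q => by
      show E l (p * q) = p • E l q + q • E l p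
      rw [hE, smul_eq_mul, smul_eq_mul]
  let x : ↥s → ↥(KaehlerDifferential.ideal k A) := fun l =>
    ⟨1 ⊗ₜ a l - a l ⊗ₜ 1, KaehlerDifferential.one_smul_sub_smul_one_mem_ideal k (a l)⟩
  refine ⟨↥s, inferInstance, D, x, ?_⟩
  let K := KaehlerDifferential.ideal k A
  suffices ∀ f ∈ K, f ∈ K ∧ f - ∑ l, E l f * (x l : A ⊗[k] A) ∈ K ^ 2 from fun f hf => (this f hf).2
  intro f hf
  rw [show K = Ideal.span (Set.range fun c : A => (1 : A) ⊗ₜ[k] c - c ⊗ₜ 1) from
    (KaehlerDifferential.span_range_eq_ideal k A).symm] at hf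
  induction hf using Submodule.span_induction with
  | mem f hf =>
    obtain ⟨c, rfl⟩ := hf
    have hf : (1 : A) ⊗ₜ[k] c - c ⊗ₜ 1 ∈ K := KaehlerDifferential.one_smul_sub_smul_one_mem_ideal k c
    refine ⟨hf, ?_⟩
    have e : ∀ l, E l ((1 : A) ⊗ₜ[k] c - c ⊗ₜ 1) = 1 ⊗ₜ d l c := by
      intro l; simp [E]
    simp only [e]
    have h2 : (1 : A) ⊗ₜ[k] c - c ⊗ₜ 1 - ∑ l, (d l c ⊗ₜ[k] (1 : A)) * (x l : A ⊗[k] A) ∈ K ^ 2 := by
      let F : ↥K := ⟨_, hf⟩ - ∑ l, (d l c ⊗ₜ[k] (1 : A)) • x l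
      have hF : (F : A ⊗[k] A) =
          (1 : A) ⊗ₜ[k] c - c ⊗ₜ 1 - ∑ l, (d l c ⊗ₜ[k] (1 : A)) * (x l : A ⊗[k] A) := by
        simp [F]
      rw [← hF, ← Ideal.toCotangent_eq_zero]
      show KaehlerDifferential.fromIdeal k A F = 0
      rw [map_sub, map_sum]
      simp only [map_smul]
      show KaehlerDifferential.D k A c - ∑ l, (d l c ⊗ₜ[k] (1 : A)) • KaehlerDifferential.D k A (a l) = 0
      simp only [ha]
      rw [← hd c, sub_eq_zero]
      refine Finset.sum_congr rfl fun l _ => ?_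
      exact (algebraMap_smul (A ⊗[k] A) (d l c) (l : Ω[A⁄k])).symm
    have h3 : ∑ l, ((1 : A) ⊗ₜ[k] d l c - d l c ⊗ₜ 1) * (x l : A ⊗[k] A) ∈ K ^ 2 := by
      rw [pow_two]
      exact sum_mem fun l _ =>
        Ideal.mul_mem_mul (KaehlerDifferential.one_smul_sub_smul_one_mem_ideal k _) (x l).2
    convert sub_mem h2 h3 using 1
    simp only [sub_mul, Finset.sum_sub_distrib]
    abel
  | zero => exact ⟨zero_mem _, by simp⟩
  | add p q _ _ hp hq =>
    refine ⟨add_mem hp.1 hq.1, ?_⟩
    convert add_mem hp.2 hq.2 using 1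
    simp only [map_add, add_mul, Finset.sum_add_distrib]
    abel
  | smul r p _ hp =>
    refine ⟨Ideal.mul_mem_left _ _ hp.1, ?_⟩
    have h3 : ∑ l, (p * E l r) * (x l : A ⊗[k] A) ∈ K ^ 2 := by
      rw [pow_two]
      exact sum_mem fun l _ => Ideal.mul_mem_mul (Ideal.mul_mem_right _ _ hp.1) (x l).2
    convert sub_mem (Ideal.mul_mem_left _ r hp.2) h3 using 1
    simp only [smul_eq_mul, hE, add_mul, Finset.sum_add_distrib, mul_sub, Finset.mul_sum, mul_assoc]
    abel

end Groth.DiagIdealH
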