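import Mathlib

/-!
Algebra homomorphisms out of a finite tensor power of a commutative algebra.
-/

set_option autoImplicit false
open TensorProduct

namespace Groth.DiagIdealH

universe u v w

variable {k : Type u} [CommRing k] {A : Type v} [CommRing A] [Algebra k A] {ι : Type} [Fintype ι]
  [DecidableEq ι]

theorem tprod_eq_prod (f : ι → A) :
    (PiTensorProduct.tprod k f : ⨂[k] _ : ι, A) =
      ∏ i, PiTensorProduct.singleAlgHom (R := k) (A := fun _ : ι => A) i (f i) := by
  simp only [PiTensorProduct.singleAlgHom_apply]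
  refine Eq.trans ?_ (map_prod (PiTensorProduct.tprodMonoidHom (A := fun _ : ι => A) k) _ _)
  show _ = PiTensorProduct.tprod k _
  congr 1
  exact (Finset.univ_prod_mulSingle f).symm

variable {S : Type w} [CommRing S] [Algebra k S]

/-- The algebra map out of the tensor power given by one algebra map per factor. -/
noncomputable def comb (h : ι → A →ₐ[k] S) : (⨂[k] _ : ι, A) →ₐ[k] S :=
  PiTensorProduct.liftAlgHom
    ((MultilinearMap.mkPiAlgebra k ι S).compLinearMap fun i => (h i).toLinearMap)
    (by simp) (by intros; simp [Finset.prod_mul_distrib])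

theorem comb_tprod (h : ι → A →ₐ[k] S) (f : ι → A) :
    comb h (PiTensorProduct.tprod k f) = ∏ i, h i (f i) := by
  exact (PiTensorProduct.lift.tprod _).trans (by simp)

theorem comb_single (h : ι → A →ₐ[k] S) (i : ι) (a : A) :
    comb h (PiTensorProduct.singleAlgHom (R := k) (A := fun _ : ι => A) i a) = h i a := by
  rw [PiTensorProduct.singleAlgHom_apply, comb_tprod]
  rw [Fintype.prod_eq_single i]
  · simp
  · intro j hj; simp [Pi.mulSingle_eq_of_ne hj]

/-- Substitution of factors. -/
noncomputable def mapIdx (g : ι → ι) : (⨂[k] _ : ι, A) →ₐ[k] ⨂[k] _ : ι, A :=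
  comb fun i => PiTensorProduct.singleAlgHom (R := k) (A := fun _ : ι => A) (g i)

theorem mapIdx_single (g : ι → ι) (i : ι) (a : A) :
    mapIdx (k := k) g (PiTensorProduct.singleAlgHom (R := k) (A := fun _ : ι => A) i a) =
      PiTensorProduct.singleAlgHom (R := k) (A := fun _ : ι => A) (g i) a := comb_single _ i a

theorem reindex_eq_mapIdx (σ : Equiv.Perm ι) (x : ⨂[k] _ : ι, A) :
    PiTensorProduct.reindex k (fun _ : ι => A) σ x = mapIdx σ x := by
  induction x using PiTensorProduct.induction_on with
  | smul_tprod r f =>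
    rw [map_smul, map_smul]
    congr 1
    rw [mapIdx, comb_tprod]
    erw [PiTensorProduct.reindex_tprod]
    rw [tprod_eq_prod, ← Equiv.prod_comp σ]
    refine Finset.prod_congr rfl fun i _ => ?_
    congr 1
    exact congrArg f (σ.symm_apply_apply i)
  | add x y hx hy => rw [map_add, map_add, hx, hy]

/-- The ideal of the diagonal of two factors. -/
noncomputable abbrev diag (i j : ι) : Ideal (⨂[k] _ : ι, A) :=
  Ideal.span (Set.range fun a : A =>
    PiTensorProduct.singleAlgHom (R := k) (A := fun _ : ι => A) i a -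
    PiTensorProduct.singleAlgHom (R := k) (A := fun _ : ι => A) j a)

theorem diag_le_ker (h : ι → A →ₐ[k] S) {i j : ι} (hij : h i = h j) :
    diag (k := k) (A := A) i j ≤ RingHom.ker (comb h) := by
  rw [Ideal.span_le]
  rintro _ ⟨a, rfl⟩
  rw [SetLike.mem_coe, RingHom.mem_ker, map_sub, comb_single, comb_single, hij, sub_self]

theorem sub_mapIdx_mem (g : ι → ι) (J : Ideal (⨂[k] _ : ι, A))
    (hg : ∀ i a, PiTensorProduct.singleAlgHom (R := k) (A := fun _ : ι => A) i a -
      PiTensorProduct.singleAlgHom (R := k) (A := fun _ : ι => A) (g i) a ∈ J)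
    (x : ⨂[k] _ : ι, A) : x - mapIdx g x ∈ J := by
  have e : (Ideal.Quotient.mkₐ k J).comp (mapIdx g) = Ideal.Quotient.mkₐ k J := by
    apply PiTensorProduct.algHom_ext
    intro i
    ext a
    simp only [AlgHom.comp_apply, mapIdx_single, Ideal.Quotient.mkₐ_eq_mk]
    exact (Ideal.Quotient.eq.2 (hg i a)).symm
  exact Ideal.Quotient.eq.1 (AlgHom.congr_fun e x).symm

end Groth.DiagIdealH
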