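import Mathlib

/-!
A symmetric tensor in `K ⊗ K` with zero product vanishes, for an ideal `K` of a noetherian ring that
admits an Euler operator modulo `K ^ 2`.
-/

set_option autoImplicit false
open TensorProduct

namespace Groth.DiagIdealH

universe u v

variable {B : Type u} [CommRing B] (K : Ideal B)

/-- Multiplication on `K ⊗ K`. -/
noncomputable def mulK : ↥K ⊗[B] ↥K →ₗ[B] B :=
  LinearMap.mul' B B ∘ₗ TensorProduct.map K.subtype K.subtype

theorem mulK_tmul (f g : ↥K) : mulK K (f ⊗ₜ g) = (f : B) * g := rfl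

theorem mulK_mem (t : ↥K ⊗[B] ↥K) : mulK K t ∈ K * K := by
  induction t with
  | zero => simp
  | tmul f g => exact Ideal.mul_mem_mul f.2 g.2
  | add x y hx hy => rw [map_add]; exact add_mem hx hy

theorem smul_eq_tmul_mulK (r : ↥K) (t : ↥K ⊗[B] ↥K) :
    (r : B) • t = r ⊗ₜ ⟨mulK K t, Ideal.mul_le_left (mulK_mem K t)⟩ := by
  induction t with
  | zero =>
    rw [smul_zero]
    convert (TensorProduct.tmul_zero (↥K) r).symm using 2
    exact Subtype.ext (map_zero _)
  | tmul f g =>
    rw [TensorProduct.smul_tmul', show (r : B) • f = (f : B) • r from Subtype.ext (mul_comm _ _),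
      TensorProduct.smul_tmul]
    rfl
  | add x y hx hy =>
    rw [smul_add, hx, hy, ← TensorProduct.tmul_add]
    congr 1
    exact Subtype.ext (map_add _ _ _).symm

theorem sq_tmul_mem (g : ↥K) (u : ↥K) (hu : (u : B) ∈ K * K) :
    u ⊗ₜ[B] g ∈ K • (⊤ : Submodule B (↥K ⊗[B] ↥K)) := by
  suffices ∀ w ∈ K * K, ∀ hw : w ∈ K, (⟨w, hw⟩ : ↥K) ⊗ₜ[B] g ∈ K • (⊤ : Submodule B (↥K ⊗[B] ↥K)) from
    this u hu u.2
  intro w hw
  induction hw using Submodule.mul_induction_on' with
  | mem_mul_mem a ha b hb =>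
    intro h
    have : (⟨a * b, h⟩ : ↥K) = a • (⟨b, hb⟩ : ↥K) := rfl
    rw [this, ← TensorProduct.smul_tmul']
    exact Submodule.smul_mem_smul ha Submodule.mem_top
  | add x hx y hy ihx ihy =>
    intro h
    have : (⟨x + y, h⟩ : ↥K) = ⟨x, Ideal.mul_le_left hx⟩ + ⟨y, Ideal.mul_le_left hy⟩ := rfl
    rw [this, TensorProduct.add_tmul]
    exact add_mem (ihx _) (ihy _)

variable {ι : Type v} [Fintype ι] (D : ι → Derivation ℤ B B) (x : ι → ↥K)

/-- The Euler operator. -/
def euler (f : B) : B := ∑ l, D l f * x l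

theorem euler_mul (a b : B) : euler K D x (a * b) = euler K D x a * b + a * euler K D x b := by
  simp only [euler, Finset.sum_mul, Finset.mul_sum, ← Finset.sum_add_distrib]
  refine Finset.sum_congr rfl fun l _ => ?_
  rw [Derivation.leibniz, smul_eq_mul, smul_eq_mul]
  ring

theorem euler_add (a b : B) : euler K D x (a + b) = euler K D x a + euler K D x b := by
  simp [euler, add_mul, Finset.sum_add_distrib]

theorem euler_pow (h : ∀ f ∈ K, f - euler K D x f ∈ K ^ 2) (n : ℕ) :
    ∀ q ∈ K ^ n, euler K D x q - n • q ∈ K ^ (n + 1) := by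
  induction n with
  | zero =>
    intro q _
    rw [zero_smul, sub_zero, zero_add, pow_one]
    exact sum_mem fun l _ => K.mul_mem_left _ (x l).2
  | succ n ih =>
    intro q hq
    rw [pow_succ] at hq
    induction hq using Submodule.mul_induction_on' with
    | mem_mul_mem a ha b hb =>
      rw [euler_mul]
      have e : euler K D x a * b + a * euler K D x b - (n + 1) • (a * b) =
          (euler K D x a - n • a) * b + -(a * (b - euler K D x b)) := by
        simp only [nsmul_eq_mul]; push_cast; ring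
      rw [e]
      refine add_mem ?_ (neg_mem ?_)
      · rw [pow_succ K (n + 1)]; exact Ideal.mul_mem_mul (ih a ha) hb
      · have := Ideal.mul_mem_mul ha (h b hb)
        rwa [← pow_add] at this
    | add a _ b _ iha ihb =>
      rw [euler_add, nsmul_add]
      convert add_mem iha ihb using 1
      abel

theorem deriv_mem (l : ι) {w : B} (hw : w ∈ K * K) : D l w ∈ K := by
  induction hw using Submodule.mul_induction_on' with
  | mem_mul_mem a ha b hb =>
    rw [Derivation.leibniz]
    exact add_mem (K.mul_mem_right _ ha) (K.mul_mem_right _ hb)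
  | add a _ b _ iha ihb => rw [map_add]; exact add_mem iha ihb

/-- Recovering a tensor from its product. -/
noncomputable def recover (t : ↥K ⊗[B] ↥K) : ↥K ⊗[B] ↥K :=
  ∑ l, x l ⊗ₜ[B] (⟨D l (mulK K t), deriv_mem K D l (mulK_mem K t)⟩ : ↥K)

theorem recover_add (s t : ↥K ⊗[B] ↥K) :
    recover K D x (s + t) = recover K D x s + recover K D x t := by
  rw [recover, recover, recover, ← Finset.sum_add_distrib]
  refine Finset.sum_congr rfl fun l _ => ?_
  rw [← TensorProduct.tmul_add]
  congr 1
  exact Subtype.ext (by simp)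

theorem recover_smul_tmul (q : B) (f g : ↥K) :
    recover K D x (q • f ⊗ₜ[B] g) = euler K D x q • f ⊗ₜ[B] g +
      q • ((∑ l, D l (f : B) • x l) ⊗ₜ[B] g) + q • ((∑ l, D l (g : B) • x l) ⊗ₜ[B] f) := by
  simp only [recover, euler, Finset.sum_smul, TensorProduct.sum_tmul, Finset.smul_sum,
    ← Finset.sum_add_distrib]
  refine Finset.sum_congr rfl fun l _ => ?_
  have e : (⟨D l (mulK K (q • f ⊗ₜ[B] g)), deriv_mem K D l (mulK_mem K _)⟩ : ↥K) =
      (D l q * f) • g + (q * D l (f : B)) • g + (q * D l (g : B)) • f := by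
    apply Subtype.ext
    show D l (mulK K (q • f ⊗ₜ[B] g)) = D l q * f * g + q * D l (f : B) * g + q * D l (g : B) * f
    rw [map_smul, smul_eq_mul, mulK_tmul, Derivation.leibniz, Derivation.leibniz, smul_eq_mul,
      smul_eq_mul, smul_eq_mul, smul_eq_mul]
    ring
  have c : ((f : B) • x l ⊗ₜ[B] g : ↥K ⊗[B] ↥K) = (x l : B) • f ⊗ₜ[B] g := by
    rw [TensorProduct.smul_tmul', TensorProduct.smul_tmul',
      show (f : B) • x l = (x l : B) • f from Subtype.ext (mul_comm _ _)]
  rw [e, TensorProduct.tmul_add, TensorProduct.tmul_add, TensorProduct.tmul_smul,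
    TensorProduct.tmul_smul, TensorProduct.tmul_smul, mul_smul, mul_smul, mul_smul, c,
    ← TensorProduct.smul_tmul' (D l (f : B)) (x l) g, ← TensorProduct.smul_tmul' (D l (g : B)) (x l) f,
    mul_smul]

theorem recover_sub_mem (h : ∀ f ∈ K, f - euler K D x f ∈ K ^ 2) (n : ℕ) (t : ↥K ⊗[B] ↥K)
    (ht : t ∈ K ^ n • (⊤ : Submodule B (↥K ⊗[B] ↥K))) :
    recover K D x t - ((n + 1) • t + TensorProduct.comm B ↥K ↥K t) ∈
      K ^ (n + 1) • (⊤ : Submodule B (↥K ⊗[B] ↥K)) := by
  induction ht using Submodule.smul_induction_on' with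
  | smul q hq m hm =>
    clear hm
    induction m with
    | zero =>
      rw [smul_zero, map_zero, smul_zero, add_zero, sub_zero]
      have h0 := recover_add K D x 0 0
      rw [add_zero, left_eq_add] at h0
      rw [h0]
      exact zero_mem _
    | tmul f g =>
      have hs : ∀ u : ↥K, ((∑ l, D l (u : B) • x l : ↥K) : B) = euler K D x u := by
        intro u; simp [euler]
      have hd : ∀ u v : ↥K, q • (((∑ l, D l (u : B) • x l) - u) ⊗ₜ[B] v) ∈
          K ^ (n + 1) • (⊤ : Submodule B (↥K ⊗[B] ↥K)) := by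
        intro u v
        rw [pow_succ, mul_smul]
        refine Submodule.smul_mem_smul hq (sq_tmul_mem K v _ ?_)
        rw [Submodule.coe_sub, hs, ← pow_two, ← Ideal.neg_mem_iff, neg_sub]
        exact h u u.2
      have h1 : (euler K D x q - n • q) • (f ⊗ₜ[B] g) ∈ K ^ (n + 1) • (⊤ : Submodule B (↥K ⊗[B] ↥K)) :=
        Submodule.smul_mem_smul (euler_pow K D x h n q hq) Submodule.mem_top
      have es : ((euler K D x q - n • q) • f ⊗ₜ[B] g : ↥K ⊗[B] ↥K) =
          euler K D x q • f ⊗ₜ[B] g - n • (q • f ⊗ₜ[B] g) := by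
        rw [← smul_assoc]; exact sub_smul _ _ (f ⊗ₜ[B] g)
      convert add_mem (add_mem h1 (hd f g)) (hd g f) using 1
      rw [recover_smul_tmul, map_smul, TensorProduct.comm_tmul, es, TensorProduct.sub_tmul,
        TensorProduct.sub_tmul, smul_sub, smul_sub, succ_nsmul]
      abel
    | add a b ha hb =>
      rw [smul_add, recover_add, map_add]
      convert add_mem ha hb using 1
      rw [smul_add]; abel
  | add a _ b _ ha hb =>
    rw [recover_add, map_add]
    convert add_mem ha hb using 1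
    rw [smul_add]; abel

theorem eq_zero_of_symm_of_mulK_eq_zero [IsNoetherianRing B] (h : ∀ f ∈ K, f - euler K D x f ∈ K ^ 2)
    (hu : ∀ n : ℕ, IsUnit ((n + 2 : ℕ) : B)) (t : ↥K ⊗[B] ↥K)
    (hsym : TensorProduct.comm B ↥K ↥K t = t) (hmul : mulK K t = 0) : t = 0 := by
  have hK : Module.Finite B ↥K := Module.Finite.iff_fg.2 (IsNoetherian.noetherian K)
  have hrec : recover K D x t = 0 := by
    refine Finset.sum_eq_zero fun l _ => ?_
    have e : (⟨D l (mulK K t), deriv_mem K D l (mulK_mem K t)⟩ : ↥K) = 0 :=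
      Subtype.ext ((congrArg (D l) hmul).trans (map_zero _))
    rw [e, TensorProduct.tmul_zero]
  have hn : ∀ n, t ∈ K ^ n • (⊤ : Submodule B (↥K ⊗[B] ↥K)) := by
    intro n
    induction n with
    | zero => rw [pow_zero, Ideal.one_eq_top, Submodule.top_smul]; trivial
    | succ n ih =>
      have := recover_sub_mem K D x h n t ih
      rw [hrec, hsym, zero_sub, Submodule.neg_mem_iff, ← succ_nsmul,
        ← Nat.cast_smul_eq_nsmul B] at this
      obtain ⟨u, hu'⟩ := hu n
      have h2 := Submodule.smul_mem _ (↑u⁻¹ : B) this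
      rwa [← hu', smul_smul, Units.inv_mul, one_smul] at h2
  obtain ⟨r, hr⟩ := (K.mem_iInf_smul_pow_eq_bot_iff t).1 (Submodule.mem_iInf _ |>.2 hn)
  rw [← hr, smul_eq_tmul_mulK K r t]
  have : (⟨mulK K t, Ideal.mul_le_left (mulK_mem K t)⟩ : ↥K) = 0 := Subtype.ext hmul
  rw [this, TensorProduct.tmul_zero]

end Groth.DiagIdealH
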