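import Mathlib
import Groth.Agent.DiagIdealH.PiAlg
import Groth.Agent.DiagIdealH.SymKernel
import Groth.Agent.DiagIdealH.Euler

/-!
Invariants of the intersection of the three diagonal ideals lie in their product.
-/

set_option autoImplicit false
open TensorProduct

namespace Groth.DiagIdealH

universe u v

theorem isUnit_natCast_tensor (k : Type u) [Field k] [CharZero k] (B : Type v) [CommRing B] [Algebra k B]
    (n : ℕ) : IsUnit ((n + 1 : ℕ) : B) := by
  have := (isUnit_iff_ne_zero.2 (Nat.cast_ne_zero.2 (Nat.succ_ne_zero n) : ((n + 1 : ℕ) : k) ≠ 0)).map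
    (algebraMap k B)
  rwa [map_natCast] at this

variable (k : Type u) [Field k] [CharZero k] (A : Type v) [CommRing A] [Algebra k A]

theorem mapIdx_tprod_three (g : Fin 3 → Fin 3) (f : Fin 3 → A) :
    mapIdx (k := k) g (PiTensorProduct.tprod k f) =
      PiTensorProduct.singleAlgHom (R := k) (A := fun _ : Fin 3 => A) (g 0) (f 0) *
      PiTensorProduct.singleAlgHom (R := k) (A := fun _ : Fin 3 => A) (g 1) (f 1) *
      PiTensorProduct.singleAlgHom (R := k) (A := fun _ : Fin 3 => A) (g 2) (f 2) := by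
  rw [mapIdx, comb_tprod, Fin.prod_univ_three]

theorem split_three (f : Fin 3 → A) :
    PiTensorProduct.tprod k f - mapIdx (k := k) ![1, 1, 2] (PiTensorProduct.tprod k f) -
      mapIdx (k := k) ![0, 1, 1] (PiTensorProduct.tprod k f) +
      mapIdx (k := k) ![1, 1, 2] (mapIdx (k := k) ![0, 1, 1] (PiTensorProduct.tprod k f)) =
    (PiTensorProduct.singleAlgHom (R := k) (A := fun _ : Fin 3 => A) 0 (f 0) -
      PiTensorProduct.singleAlgHom (R := k) (A := fun _ : Fin 3 => A) 1 (f 0)) *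
      PiTensorProduct.singleAlgHom (R := k) (A := fun _ : Fin 3 => A) 1 (f 1) *
    (PiTensorProduct.singleAlgHom (R := k) (A := fun _ : Fin 3 => A) 2 (f 2) -
      PiTensorProduct.singleAlgHom (R := k) (A := fun _ : Fin 3 => A) 1 (f 2)) := by
  rw [mapIdx_tprod_three, mapIdx_tprod_three, map_mul, map_mul, mapIdx_single, mapIdx_single, mapIdx_single,
    tprod_eq_prod, Fin.prod_univ_three]
  simp only [Matrix.cons_val_zero, Matrix.cons_val_one, Matrix.cons_val_two, Matrix.head_cons,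
    Matrix.tail_cons, Matrix.cons_val]
  ring

set_option maxHeartbeats 1000000 in
theorem mem_cube_of_invariant [Algebra.Smooth k A] (x : ⨂[k] _ : Fin 3, A)
    (hx : mapIdx (k := k) (A := A) (Equiv.swap (0 : Fin 3) 2) x = x)
    (h01 : x ∈ diag (k := k) (A := A) (0 : Fin 3) 1) (h12 : x ∈ diag (k := k) (A := A) (1 : Fin 3) 2) (h02 : x ∈ diag (k := k) (A := A) (0 : Fin 3) 2) :
    x ∈ diag (k := k) (A := A) (0 : Fin 3) 1 * diag (k := k) (A := A) (1 : Fin 3) 2 * diag (k := k) (A := A) (0 : Fin 3) 2 := by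
  classical
  let ι₀ := fun i : Fin 3 => PiTensorProduct.singleAlgHom (R := k) (A := fun _ : Fin 3 => A) i
  let P : Ideal (⨂[k] _ : Fin 3, A) := diag (k := k) (A := A) (0 : Fin 3) 1 * diag (k := k) (A := A) (1 : Fin 3) 2 * diag (k := k) (A := A) (0 : Fin 3) 2
  let φ : A ⊗[k] A →ₐ[k] ⨂[k] _ : Fin 3, A := Algebra.TensorProduct.productMap (ι₀ 0) (ι₀ 1)
  let φ' : A ⊗[k] A →ₐ[k] ⨂[k] _ : Fin 3, A := Algebra.TensorProduct.productMap (ι₀ 2) (ι₀ 1)
  let K := KaehlerDifferential.ideal k A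
  have hK : K = Ideal.span (Set.range fun c : A => (1 : A) ⊗ₜ[k] c - c ⊗ₜ 1) :=
    (KaehlerDifferential.span_range_eq_ideal k A).symm
  have hφK : ∀ f ∈ K, φ f ∈ diag (k := k) (A := A) (0 : Fin 3) 1 := by
    intro f hf
    have : Ideal.map φ K ≤ diag (k := k) (A := A) (0 : Fin 3) 1 := by
      rw [hK, Ideal.map_span, Ideal.span_le]
      rintro _ ⟨_, ⟨c, rfl⟩, rfl⟩
      rw [SetLike.mem_coe, ← Ideal.neg_mem_iff]
      exact Ideal.subset_span ⟨c, by simp [φ, ι₀]⟩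
    exact this (Ideal.mem_map_of_mem _ hf)
  have hφ'K : ∀ f ∈ K, φ' f ∈ diag (k := k) (A := A) (1 : Fin 3) 2 := by
    intro f hf
    have : Ideal.map φ' K ≤ diag (k := k) (A := A) (1 : Fin 3) 2 := by
      rw [hK, Ideal.map_span, Ideal.span_le]
      rintro _ ⟨_, ⟨c, rfl⟩, rfl⟩
      exact Ideal.subset_span ⟨c, by simp [φ', ι₀]⟩
    exact this (Ideal.mem_map_of_mem _ hf)
  have hφφ' : ∀ r, φ r - φ' r ∈ diag (k := k) (A := A) (0 : Fin 3) 2 := by
    intro r
    have e : (Ideal.Quotient.mkₐ k (diag (k := k) (A := A) (0 : Fin 3) 2)).comp φ =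
        (Ideal.Quotient.mkₐ k (diag (k := k) (A := A) (0 : Fin 3) 2)).comp φ' := by
      ext a
      · simp only [φ, φ', AlgHom.comp_apply, Algebra.TensorProduct.includeLeft_apply,
          Algebra.TensorProduct.productMap_apply_tmul, map_one, mul_one, Ideal.Quotient.mkₐ_eq_mk]
        exact Ideal.Quotient.eq.2 (Ideal.subset_span ⟨a, rfl⟩)
      · simp [φ, φ']
    exact Ideal.Quotient.eq.1 (AlgHom.congr_fun e r)
  let F : ↥K →+ ↥K →+ (⨂[k] _ : Fin 3, A) ⧸ P :=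
    AddMonoidHom.mk' (fun f => AddMonoidHom.mk' (fun g => Ideal.Quotient.mk P (φ f * φ' g))
      (fun g g' => by simp [mul_add])) (fun f f' => by ext g; simp [add_mul])
  have hF : ∀ (r : A ⊗[k] A) (m n : ↥K), F (r • m) n = F m (r • n) := by
    intro r m n
    show Ideal.Quotient.mk P (φ (r * m) * φ' n) = Ideal.Quotient.mk P (φ m * φ' (r * n))
    rw [Ideal.Quotient.eq, map_mul, map_mul,
      show φ r * φ m * φ' n - φ m * (φ' r * φ' n) = φ m * φ' n * (φ r - φ' r) by ring]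
    exact Ideal.mul_mem_mul (Ideal.mul_mem_mul (hφK _ m.2) (hφ'K _ n.2)) (hφφ' r)
  let Ψ := TensorProduct.liftAddHom F hF
  have hΨ : ∀ f g : ↥K, Ψ (f ⊗ₜ g) = Ideal.Quotient.mk P (φ f * φ' g) := fun f g => rfl
  let σ := mapIdx (k := k) (A := A) (Equiv.swap (0 : Fin 3) 2)
  let e : (⨂[k] _ : Fin 3, A) →ₐ[k] _ := mapIdx (k := k) (A := A) ![1, 1, 2]
  let e' : (⨂[k] _ : Fin 3, A) →ₐ[k] _ := mapIdx (k := k) (A := A) ![0, 1, 1]
  let π : (⨂[k] _ : Fin 3, A) →ₐ[k] A ⊗[k] A := comb ![Algebra.TensorProduct.includeLeft,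
    Algebra.TensorProduct.includeRight, Algebra.TensorProduct.includeLeft]
  let Q : (⨂[k] _ : Fin 3, A) →ₗ[k] ⨂[k] _ : Fin 3, A :=
    LinearMap.id - e.toLinearMap - e'.toLinearMap + e.toLinearMap ∘ₗ e'.toLinearMap
  have main : ∀ y, ∃ t : ↥K ⊗[A ⊗[k] A] ↥K, Ψ t = Ideal.Quotient.mk P (Q y) ∧
      Ψ (TensorProduct.comm (A ⊗[k] A) ↥K ↥K t) = Ideal.Quotient.mk P (σ (Q y)) ∧
      mulK K t = π (Q y) := by
    intro y
    induction y using PiTensorProduct.induction_on with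
    | smul_tprod r f =>
      obtain ⟨g, hg⟩ : ∃ g : Fin 3 → A, r • PiTensorProduct.tprod k f = PiTensorProduct.tprod k g :=
        ⟨Function.update f 0 (r • f 0), by rw [MultilinearMap.map_update_smul, Function.update_eq_self]⟩
      rw [hg]
      have hu : ∀ a : A, a ⊗ₜ[k] (1 : A) - 1 ⊗ₜ a ∈ K := fun a => by simp [K, RingHom.mem_ker]
      have hQg : Q (PiTensorProduct.tprod k g) = (ι₀ 0 (g 0) - ι₀ 1 (g 0)) * ι₀ 1 (g 1) *
          (ι₀ 2 (g 2) - ι₀ 1 (g 2)) := split_three k A g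
      refine ⟨(((1 : A) ⊗ₜ[k] g 1) • (⟨_, hu (g 0)⟩ : ↥K)) ⊗ₜ (⟨_, hu (g 2)⟩ : ↥K), ?_, ?_, ?_⟩
      · rw [hΨ, hQg]
        congr 1
        show φ ((1 : A) ⊗ₜ[k] g 1 * (g 0 ⊗ₜ 1 - 1 ⊗ₜ g 0)) * φ' (g 2 ⊗ₜ 1 - 1 ⊗ₜ g 2) = _
        simp only [φ, φ', map_mul, map_sub, Algebra.TensorProduct.productMap_apply_tmul, map_one, one_mul, mul_one]
        ring
      · rw [TensorProduct.comm_tmul, hΨ, hQg]
        congr 1
        show φ (g 2 ⊗ₜ 1 - 1 ⊗ₜ g 2) * φ' ((1 : A) ⊗ₜ[k] g 1 * (g 0 ⊗ₜ 1 - 1 ⊗ₜ g 0)) = _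
        have s0 : ∀ a, σ (ι₀ 0 a) = ι₀ 2 a := fun a => mapIdx_single _ _ _
        have s1 : ∀ a, σ (ι₀ 1 a) = ι₀ 1 a := fun a => mapIdx_single _ _ _
        have s2 : ∀ a, σ (ι₀ 2 a) = ι₀ 0 a := fun a => mapIdx_single _ _ _
        simp only [φ, φ', map_mul, map_sub, Algebra.TensorProduct.productMap_apply_tmul, map_one, one_mul, mul_one,
          s0, s1, s2]
        ring
      · rw [mulK_tmul, hQg]
        show (1 : A) ⊗ₜ[k] g 1 * (g 0 ⊗ₜ 1 - 1 ⊗ₜ g 0) * (g 2 ⊗ₜ 1 - 1 ⊗ₜ g 2) = _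
        have p0 : ∀ a, π (ι₀ 0 a) = a ⊗ₜ 1 := fun a => comb_single _ _ _
        have p1 : ∀ a, π (ι₀ 1 a) = 1 ⊗ₜ a := fun a => comb_single _ _ _
        have p2 : ∀ a, π (ι₀ 2 a) = a ⊗ₜ 1 := fun a => comb_single _ _ _
        simp only [map_mul, map_sub, p0, p1, p2]
        ring
    | add p q hp hq =>
      obtain ⟨t, h1, h2, h3⟩ := hp
      obtain ⟨t', h1', h2', h3'⟩ := hq
      refine ⟨t + t', ?_, ?_, ?_⟩
      · rw [map_add, h1, h1', map_add, map_add]
      · rw [map_add, map_add, h2, h2', map_add, map_add, map_add]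
      · rw [map_add, h3, h3', map_add, map_add]
  obtain ⟨t, h1, h2, h3⟩ := main x
  have he : e x = 0 := diag_le_ker _ (by rfl) h01
  have he' : e' x = 0 := diag_le_ker _ (by rfl) h12
  have hπ : π x = 0 := diag_le_ker _ (by rfl) h02
  have hQ : Q x = x := by simp [Q, he, he']
  rw [hQ] at h1 h2 h3
  rw [show σ x = x from hx] at h2
  rw [hπ] at h3
  obtain ⟨ι, _, D, xs, hE⟩ := exists_euler k A
  have : Algebra.FiniteType k (A ⊗[k] A) := Algebra.FiniteType.trans (inferInstance : Algebra.FiniteType k A) (inferInstance : Algebra.FiniteType A (A ⊗[k] A))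
  have : IsNoetherianRing (A ⊗[k] A) := Algebra.FiniteType.isNoetherianRing k _
  have hsymmul : ∀ s : ↥K ⊗[A ⊗[k] A] ↥K, mulK K (TensorProduct.comm (A ⊗[k] A) ↥K ↥K s) = mulK K s := by
    intro s
    induction s with
    | zero => simp
    | tmul f g => rw [TensorProduct.comm_tmul, mulK_tmul, mulK_tmul, mul_comm]
    | add a b ha hb => rw [map_add, map_add, ha, hb, map_add]
  have ht : t + TensorProduct.comm (A ⊗[k] A) ↥K ↥K t = 0 := by
    refine eq_zero_of_symm_of_mulK_eq_zero K D xs hE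
      (fun n => isUnit_natCast_tensor k _ (n + 1)) _ ?_ ?_
    · rw [map_add, add_comm]
      congr 1
      induction t with
      | zero => simp
      | tmul f g => simp
      | add a b ha hb => simp [ha, hb]
    · rw [map_add, hsymmul, h3, add_zero]
  have h0 := congrArg Ψ ht
  rw [map_add, h1, h2, map_zero, ← map_add, Ideal.Quotient.eq_zero_iff_mem, ← two_mul] at h0
  exact (Ideal.unit_mul_mem_iff_mem P (by simpa using isUnit_natCast_tensor k (⨂[k] _ : Fin 3, A) 1)).1 h0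

end Groth.DiagIdealH
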