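import Mathlib

/-! Maps out of Kähler differentials from bilinear maps satisfying the Leibniz rule. -/

set_option autoImplicit false

universe u v w

namespace Groth.DiagIdealH

variable {k : Type u} [CommRing k] {A : Type v} [CommRing A] [Algebra k A] {Q : Type w} [AddCommGroup Q] [Module k Q]

/-- `A →ₗ[k] Q` as an `A`-module by precomposition with multiplication. -/
structure Pre (k : Type u) (A : Type v) (Q : Type w) [CommRing k] [CommRing A] [Algebra k A]
    [AddCommGroup Q] [Module k Q] where
  /-- the underlying map -/
  val : A →ₗ[k] Q

/-- Equivalence with linear maps. -/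
def preEquiv : Pre k A Q ≃ (A →ₗ[k] Q) := ⟨Pre.val, Pre.mk, fun _ => rfl, fun _ => rfl⟩

@[ext] theorem Pre.ext' {x y : Pre k A Q} (h : ∀ a, x.val a = y.val a) : x = y := by
  cases x; cases y; congr; exact LinearMap.ext h

noncomputable instance : AddCommGroup (Pre k A Q) := preEquiv.addCommGroup

noncomputable instance : SMul A (Pre k A Q) := ⟨fun b f => ⟨f.val ∘ₗ LinearMap.mul k A b⟩⟩

@[simp] theorem add_val (x y : Pre k A Q) : (x + y).val = x.val + y.val := rfl
@[simp] theorem zero_val : (0 : Pre k A Q).val = 0 := rfl
@[simp] theorem smul_val (b : A) (x : Pre k A Q) (a : A) : (b • x).val a = x.val (b * a) := rfl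

noncomputable instance : Module A (Pre k A Q) where
  one_smul x := by ext a; simp
  mul_smul b c x := by ext a; simp [mul_assoc, mul_left_comm]
  smul_zero b := by ext a; simp
  zero_smul x := by ext a; simp
  smul_add b x y := by ext a; simp
  add_smul b c x := by ext a; simp [add_mul]

noncomputable instance : Module k (Pre k A Q) := Module.compHom _ (algebraMap k A)

instance : IsScalarTower k A (Pre k A Q) := IsScalarTower.of_algebraMap_smul fun _ _ => rfl

/-- A bilinear map satisfying the Leibniz rule factors through the differentials. -/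
theorem exists_kaehlerLift (φ : A →ₗ[k] A →ₗ[k] Q)
    (hφ : ∀ a b c, φ a (b * c) = φ (a * b) c + φ (a * c) b) :
    ∃ Φ : Ω[A⁄k] →ₗ[k] Q, ∀ a b, Φ (a • KaehlerDifferential.D k A b) = φ a b := by
  let δ : Derivation k A (Pre k A Q) := Derivation.mk'
    { toFun := fun b => ⟨φ.flip b⟩
      map_add' := fun b c => by ext a; simp
      map_smul' := fun t b => by
        ext a
        rw [RingHom.id_apply, ← algebraMap_smul A t (⟨φ.flip b⟩ : Pre k A Q), smul_val, ← Algebra.smul_def]
        simp }
    (fun b c => by
      ext a
      simp [hφ a b c, mul_comm b a, mul_comm c a])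
  refine ⟨{ toFun := fun ω => (δ.liftKaehlerDifferential ω).val 1
            map_add' := fun x y => by simp
            map_smul' := fun t x => by
              rw [RingHom.id_apply, ← algebraMap_smul A t x, map_smul, smul_val, ← Algebra.smul_def,
                map_smul] }, fun a b => ?_⟩
  simp [δ, Derivation.liftKaehlerDifferential_comp_D]

end Groth.DiagIdealH
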