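import Mathlib
import Groth.Agent.DiagIdealH.PiAlg
import Groth.Agent.DiagIdealH.SymKernel
import Groth.Agent.VarietyBC.TensorAlgClosed
import Groth.Agent.Calg1.SerreConditions
import Groth.Agent.LocCohBase.Torsion
import Groth.Agent.Ega4Algebra1.RegularNormal
import Groth.Agent.S9408

/-!
Powers of the diagonal ideals in a tensor power of a smooth algebra are primary, and their
intersection has depth at least two along the locus where two diagonals meet.
-/

set_option autoImplicit false

universe u

set_option backward.isDefEq.respectTransparency false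

open TensorProduct Pointwise

namespace Groth.DiagIdealH

/-- Two-term regular sequences from the absence of torsion modulo one element. -/
theorem two_le_idealDepth {R : Type u} [CommRing R] [IsNoetherianRing R] (J : Ideal R) (M : Type u)
    [AddCommGroup M] [Module R M] [Module.Finite R M] {a : R} (haJ : a ∈ J) (ha : IsSMulRegular M a)
    (h : ∀ m : M, (∀ c ∈ J, ∃ w : M, c • m = a • w) → ∃ w : M, m = a • w) :
    2 ≤ LocCoh.idealDepth J M := by
  classical
  let N : Submodule R M := LinearMap.range (LinearMap.lsmul R M a)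
  obtain ⟨b, hbJ, hb⟩ : ∃ b ∈ J, IsSMulRegular (M ⧸ N) b := by
    by_contra hcon
    push Not at hcon
    have hsub : (J : Set R) ⊆ ⋃ P ∈ associatedPrimes R (M ⧸ N), (P : Set R) := fun c hc => by
      rw [biUnion_associatedPrimes_eq_compl_regular]
      exact hcon c hc
    obtain ⟨P, hP, hJP⟩ := (Ideal.subset_union_prime_finite (associatedPrimes.finite R (M ⧸ N)) ⊥ ⊥
      fun P hP _ _ => IsAssociatedPrime.isPrime hP).1 hsub
    obtain ⟨hPp, x, hx⟩ := isAssociatedPrime_iff.1 hP
    obtain ⟨m, rfl⟩ := Submodule.Quotient.mk_surjective N x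
    obtain ⟨w, hw⟩ := h m fun c hc => by
      have := hJP hc
      rw [hx, Submodule.mem_colon_singleton, Submodule.mem_bot, ← Submodule.Quotient.mk_smul,
        Submodule.Quotient.mk_eq_zero] at this
      obtain ⟨w, hw⟩ := this
      exact ⟨w, hw.symm⟩
    refine hPp.ne_top (top_unique fun r _ => ?_)
    rw [hx, Submodule.mem_colon_singleton, Submodule.mem_bot, (Submodule.Quotient.mk_eq_zero N).2 ⟨w, hw.symm⟩,
      smul_zero]
  unfold LocCoh.idealDepth
  split_ifs
  · exact le_top
  refine le_iSup₂_of_le [a, b] ⟨?_, ?_⟩ (by simp)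
  · rw [RingTheory.Sequence.isWeaklyRegular_cons_iff, RingTheory.Sequence.isWeaklyRegular_cons_iff]
    refine ⟨ha, ?_, RingTheory.Sequence.IsWeaklyRegular.nil _ _⟩
    have hN : a • (⊤ : Submodule R M) = N := by
      ext m
      rw [Submodule.mem_smul_pointwise_iff_exists]
      simp [N]
    exact (LinearEquiv.isSMulRegular_congr (Submodule.quotEquivOfEq _ _ hN) b).2 hb
  · intro r hr
    simp only [List.mem_cons, List.not_mem_nil, or_false] at hr
    rcases hr with rfl | rfl
    · exact haJ
    · exact hbJ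

/-- Derivations of a ring over the integers. -/
abbrev IntDer (B : Type u) [CommRing B] := Derivation ℤ B B

/-- A derivation from an additive map satisfying the Leibniz rule. -/
def IntDer.ofFun {B : Type u} [CommRing B] (e : B →+ B) (h : ∀ p q, e (p * q) = p * e q + q * e p) : IntDer B :=
  Derivation.mk' e.toIntLinearMap fun p q => h p q

section Euler

variable {B : Type u} [CommRing B] {ι : Type u} [Fintype ι] (D : ι → Derivation ℤ B B) (I : Ideal B)
  (x : ι → ↥I)

theorem deriv_mem_pow (d : Derivation ℤ B B) (N : ℕ) : ∀ f ∈ I ^ (N + 1), d f ∈ I ^ N := by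
  induction N with
  | zero => intro f _; simp
  | succ N ih =>
    intro f hf
    rw [pow_succ] at hf
    induction hf using Submodule.mul_induction_on' with
    | mem_mul_mem a ha b hb =>
      rw [Derivation.leibniz, smul_eq_mul, smul_eq_mul]
      refine add_mem (Ideal.mul_mem_right _ _ ha) ?_
      rw [pow_succ', mul_comm b]
      exact Ideal.mul_mem_mul (ih a ha) hb |> fun h => by rwa [mul_comm (I ^ N) I] at h
    | add a _ b _ iha ihb => rw [map_add]; exact add_mem iha ihb

/-- A power of a prime with an Euler operator is primary. -/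
theorem mem_pow_of_mul_mem [I.IsPrime] (h : ∀ f ∈ I, f - euler I D x f ∈ I ^ 2)
    (hN : ∀ n : ℕ, IsUnit ((n + 1 : ℕ) : B)) {r : B} (hr : r ∉ I) :
    ∀ (N : ℕ) (f : B), r * f ∈ I ^ N → f ∈ I ^ N := by
  intro N
  induction N with
  | zero => intro f _; simp
  | succ N ih =>
    intro f hf
    rcases N.eq_zero_or_pos with rfl | hpos
    · rw [zero_add, pow_one] at hf ⊢
      exact (Ideal.IsPrime.mem_or_mem ‹_› hf).resolve_left hr
    have hfN : f ∈ I ^ N := ih f (Ideal.pow_le_pow_right N.le_succ hf)
    have hD : ∀ l, D l f ∈ I ^ N := fun l => ih _ (by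
      have h1 := deriv_mem_pow I (D l) N _ hf
      rw [Derivation.leibniz, smul_eq_mul, smul_eq_mul] at h1
      exact (Submodule.add_mem_iff_left _ (Ideal.mul_mem_right _ _ hfN)).1 h1)
    have he : euler I D x f ∈ I ^ (N + 1) := by
      rw [pow_succ]
      exact sum_mem fun l _ => Ideal.mul_mem_mul (hD l) (x l).2
    have h2 := sub_mem he (euler_pow I D x h N f hfN)
    rw [sub_sub_cancel, nsmul_eq_mul] at h2
    obtain ⟨n, rfl⟩ : ∃ n, N = n + 1 := ⟨N - 1, by omega⟩
    exact (Ideal.unit_mul_mem_iff_mem _ (hN n)).1 h2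

end Euler

variable {k : Type u} [Field k] {A : Type u} [CommRing A] [Algebra k A] {n : ℕ}

local notation "𝓡" => (⨂[k] _ : Fin n, A)

local notation "sgl" => PiTensorProduct.singleAlgHom (R := k) (A := fun _ : Fin n => A)

/-- The derivation acting on one factor. -/
noncomputable def factorDer (j : Fin n) (d : Derivation k A A) : 𝓡 →ₗ[k] 𝓡 :=
  PiTensorProduct.map (Function.update (fun _ : Fin n => (LinearMap.id : A →ₗ[k] A)) j d.toLinearMap)

theorem factorDer_tprod (j : Fin n) (d : Derivation k A A) (f : Fin n → A) :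
    factorDer j d (PiTensorProduct.tprod k f) = PiTensorProduct.tprod k (Function.update f j (d (f j))) := by
  rw [factorDer, PiTensorProduct.map_tprod]
  congr 1
  funext i
  by_cases h : i = j
  · subst h; simp
  · simp [Function.update_of_ne h]

theorem factorDer_mul (j : Fin n) (d : Derivation k A A) (p q : 𝓡) :
    factorDer j d (p * q) = p * factorDer j d q + q * factorDer j d p := by
  induction p using PiTensorProduct.induction_on with
  | smul_tprod r f =>
    induction q using PiTensorProduct.induction_on with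
    | smul_tprod s g =>
      simp only [smul_mul_assoc, mul_smul_comm, map_smul, factorDer_tprod, PiTensorProduct.tprod_mul_tprod,
        smul_smul, mul_comm s r, ← smul_add]
      congr 1
      rw [show d ((f * g) j) = f j * d (g j) + g j * d (f j) by
        rw [Pi.mul_apply, Derivation.leibniz, smul_eq_mul, smul_eq_mul],
        (PiTensorProduct.tprod k).map_update_add]
      congr 1 <;> congr 1 <;> funext i <;> (by_cases h : i = j) <;> subst_vars <;>
        simp [Function.update_of_ne, *, mul_comm]
    | add q q' hq hq' => rw [mul_add, map_add, hq, hq', map_add]; ring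
  | add p p' hp hp' => rw [add_mul, map_add, hp, hp', map_add]; ring

theorem factorDer_sgl_self (j : Fin n) (d : Derivation k A A) (a : A) :
    factorDer j d (sgl j a) = sgl j (d a) := by
  rw [PiTensorProduct.singleAlgHom_apply, factorDer_tprod, PiTensorProduct.singleAlgHom_apply]
  congr 1
  funext i
  by_cases h : i = j
  · subst h; simp [Pi.mulSingle_eq_same]
  · simp [Pi.mulSingle_eq_of_ne h, Function.update_of_ne h]

theorem factorDer_sgl_ne {i j : Fin n} (hij : i ≠ j) (d : Derivation k A A) (a : A) :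
    factorDer j d (sgl i a) = 0 := by
  rw [PiTensorProduct.singleAlgHom_apply, factorDer_tprod]
  refine (PiTensorProduct.tprod k).map_coord_zero j ?_
  simp [Pi.mulSingle_eq_of_ne (Ne.symm hij)]

/-- An Euler operator for a diagonal ideal. -/
theorem exists_euler_pair [Algebra.Smooth k A] {i j : Fin n} (hij : i ≠ j) :
    ∃ (ι : Type u) (_ : Fintype ι) (D : ι → IntDer 𝓡) (x : ι → ↥(diag (k := k) (A := A) i j)),
      ∀ f ∈ diag (k := k) (A := A) i j, f - euler _ D x f ∈ diag (k := k) (A := A) i j ^ 2 := by
  classical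
  obtain ⟨s, hs, hspan⟩ := (Submodule.fg_span_iff_fg_span_finset_subset
    (Set.range (KaehlerDifferential.D k A))).1 (by
      rw [KaehlerDifferential.span_range_derivation]; exact Module.Finite.fg_top)
  rw [KaehlerDifferential.span_range_derivation] at hspan
  choose a ha using fun l : ↥s => hs l.2
  let L : (↥s → A) →ₗ[A] Ω[A⁄k] := Fintype.linearCombination A fun l => (l : Ω[A⁄k])
  have hL : Function.Surjective L := by
    rw [← LinearMap.range_eq_top, Fintype.range_linearCombination, hspan]
    simp
  obtain ⟨σ, hσ⟩ := L.exists_rightInverse_of_surjective (LinearMap.range_eq_top.2 hL)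
  let d : ↥s → Derivation k A A := fun l => (LinearMap.proj l ∘ₗ σ).compDer (KaehlerDifferential.D k A)
  have hd : ∀ c : A, ∑ l, d l c • (l : Ω[A⁄k]) = KaehlerDifferential.D k A c := fun c =>
    (LinearMap.congr_fun hσ (KaehlerDifferential.D k A c) :)
  let I := diag (k := k) (A := A) i j
  let D : ↥s → IntDer 𝓡 := fun l =>
    IntDer.ofFun (factorDer j (d l)).toAddMonoidHom (factorDer_mul j (d l))
  have hmem : ∀ c, sgl i c - sgl j c ∈ I := fun c => Ideal.subset_span ⟨c, rfl⟩
  let x : ↥s → ↥I := fun l => ⟨-(sgl i (a l) - sgl j (a l)), neg_mem (hmem _)⟩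
  refine ⟨↥s, inferInstance, D, x, ?_⟩
  let φ : A ⊗[k] A →ₐ[k] 𝓡 := Algebra.TensorProduct.productMap (sgl i) (sgl j)
  let K := KaehlerDifferential.ideal k A
  have hφK : Ideal.map φ K ≤ I := by
    rw [show K = Ideal.span (Set.range fun c : A => (1 : A) ⊗ₜ[k] c - c ⊗ₜ 1) from
      (KaehlerDifferential.span_range_eq_ideal k A).symm, Ideal.map_span, Ideal.span_le]
    rintro _ ⟨_, ⟨c, rfl⟩, rfl⟩
    rw [SetLike.mem_coe, ← Ideal.neg_mem_iff]
    simpa [φ] using hmem c
  intro f hf
  suffices f ∈ I ∧ f - euler I D x f ∈ I ^ 2 from this.2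
  induction hf using Submodule.span_induction with
  | mem f hf =>
    obtain ⟨c, rfl⟩ := hf
    refine ⟨hmem c, ?_⟩
    have h2 : (1 : A) ⊗ₜ[k] c - c ⊗ₜ 1 -
        ∑ l, (d l c ⊗ₜ[k] (1 : A)) * ((1 : A) ⊗ₜ[k] a l - a l ⊗ₜ 1) ∈ K ^ 2 := by
      let F : ↥K := ⟨_, KaehlerDifferential.one_smul_sub_smul_one_mem_ideal k c⟩ -
        ∑ l, (d l c ⊗ₜ[k] (1 : A)) • ⟨_, KaehlerDifferential.one_smul_sub_smul_one_mem_ideal k (a l)⟩
      have hF : (F : A ⊗[k] A) = (1 : A) ⊗ₜ[k] c - c ⊗ₜ 1 -
          ∑ l, (d l c ⊗ₜ[k] (1 : A)) * ((1 : A) ⊗ₜ[k] a l - a l ⊗ₜ 1) := by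
        simp [F]
      rw [← hF, ← Ideal.toCotangent_eq_zero]
      show KaehlerDifferential.fromIdeal k A F = 0
      rw [map_sub, map_sum]
      simp only [map_smul]
      show KaehlerDifferential.D k A c - ∑ l, (d l c ⊗ₜ[k] (1 : A)) • KaehlerDifferential.D k A (a l) = 0
      simp only [ha]
      rw [← hd c, sub_eq_zero]
      refine Finset.sum_congr rfl fun l _ => ?_
      exact (algebraMap_smul (A ⊗[k] A) (d l c) (l : Ω[A⁄k])).symm
    have h3 := Ideal.pow_right_mono hφK 2 (by rw [← Ideal.map_pow]; exact Ideal.mem_map_of_mem φ h2)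
    have h4 : ∑ l, (sgl i (d l c) - sgl j (d l c)) * (x l : 𝓡) ∈ I ^ 2 := by
      rw [pow_two]
      exact sum_mem fun l _ => Ideal.mul_mem_mul (hmem _) (x l).2
    have e : ∀ l, D l (sgl i c - sgl j c) = - sgl j (d l c) := fun l => by
      show factorDer j (d l) (sgl i c - sgl j c) = _
      rw [map_sub, factorDer_sgl_ne hij, factorDer_sgl_self, zero_sub]
    convert neg_mem (add_mem h3 h4) using 1
    simp only [euler, e, x, φ, map_sub, map_sum, map_mul, Algebra.TensorProduct.productMap_apply_tmul,
      map_one, one_mul, mul_one, ← Finset.sum_neg_distrib, ← Finset.sum_sub_distrib, ← Finset.sum_add_distrib,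
      neg_add_rev, neg_sub]
    rw [← sub_eq_zero]
    simp only [mul_sub, sub_mul, neg_mul, Finset.sum_sub_distrib, Finset.sum_neg_distrib, neg_sub]
    ring
  | zero => exact ⟨zero_mem _, by simp [euler]⟩
  | add p q _ _ hp hq =>
    refine ⟨add_mem hp.1 hq.1, ?_⟩
    convert add_mem hp.2 hq.2 using 1
    rw [euler_add]; abel
  | smul r p _ hp =>
    refine ⟨Ideal.mul_mem_left _ _ hp.1, ?_⟩
    have h3 : euler I D x r * p ∈ I ^ 2 := by
      rw [pow_two]
      exact Ideal.mul_mem_mul (sum_mem fun l _ => I.mul_mem_left _ (x l).2) hp.1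
    convert sub_mem (Ideal.mul_mem_left _ r hp.2) h3 using 1
    rw [smul_eq_mul, euler_mul]; ring

theorem isDomain_piTensor [IsAlgClosed k] [IsDomain A] : ∀ n : ℕ, IsDomain (⨂[k] _ : Fin n, A) := by
  intro n
  induction n with
  | zero =>
    let f : (⨂[k] _ : Fin 0, A) →ₐ[k] k := comb fun i => i.elim0
    have hgf : (Algebra.ofId k (⨂[k] _ : Fin 0, A)).comp f = AlgHom.id k _ :=
      PiTensorProduct.algHom_ext fun i => i.elim0
    exact (show Function.Injective f from Function.LeftInverse.injective
      (g := Algebra.ofId k (⨂[k] _ : Fin 0, A)) fun z => AlgHom.congr_fun hgf z).isDomain f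
  | succ m ih =>
    let f : (⨂[k] _ : Fin (m + 1), A) →ₐ[k] A ⊗[k] (⨂[k] _ : Fin m, A) :=
      comb (Fin.cases Algebra.TensorProduct.includeLeft
        fun i => Algebra.TensorProduct.includeRight.comp (PiTensorProduct.singleAlgHom (R := k) (A := fun _ : Fin m => A) i))
    let g : A ⊗[k] (⨂[k] _ : Fin m, A) →ₐ[k] (⨂[k] _ : Fin (m + 1), A) :=
      Algebra.TensorProduct.productMap (PiTensorProduct.singleAlgHom (R := k) (A := fun _ : Fin (m + 1) => A) 0) (comb fun i => PiTensorProduct.singleAlgHom (R := k) (A := fun _ : Fin (m + 1) => A) i.succ)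
    have hgf : g.comp f = AlgHom.id k _ := by
      refine PiTensorProduct.algHom_ext fun i => ?_
      ext a
      induction i using Fin.cases with
      | zero =>
        simp only [f, g, AlgHom.comp_apply, comb_single, Fin.cases_zero, AlgHom.id_apply]
        simp
      | succ i =>
        simp only [f, g, AlgHom.comp_apply, comb_single, Fin.cases_succ, AlgHom.id_apply,
          Algebra.TensorProduct.includeRight_apply, Algebra.TensorProduct.productMap_apply_tmul, map_one, one_mul]
    have := Groth.VarietyBC.isDomain_tensor (k := k) (A := A) (B := ⨂[k] _ : Fin m, A)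
    exact (show Function.Injective f from Function.LeftInverse.injective (g := g)
      fun z => AlgHom.congr_fun hgf z).isDomain f

theorem smooth_piTensor [Algebra.Smooth k A] : Algebra.Smooth k 𝓡 := by
  classical
  have : Algebra.FiniteType k 𝓡 := by
    obtain ⟨s, hs⟩ := Algebra.FiniteType.out (R := k) (A := A)
    refine ⟨⟨(Finset.univ ×ˢ s).image fun p => sgl p.1 p.2, top_unique fun z _ => ?_⟩⟩
    let T := Algebra.adjoin k ((((Finset.univ : Finset (Fin n)) ×ˢ s).image fun p => sgl p.1 p.2 : Finset 𝓡) : Set 𝓡)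
    show z ∈ T
    have h1 : ∀ i a, sgl i a ∈ T := fun i a => by
      have : (⊤ : Subalgebra k A) ≤ T.comap (sgl i) := by
        rw [← hs, Algebra.adjoin_le_iff]
        intro c hc
        exact Algebra.subset_adjoin (by
          simp only [Finset.coe_image, Finset.coe_product, Set.mem_image, Set.mem_prod]
          exact ⟨(i, c), ⟨by simp, hc⟩, rfl⟩)
      exact this trivial
    induction z using PiTensorProduct.induction_on with
    | smul_tprod r f =>
      rw [tprod_eq_prod]
      exact T.smul_mem (T.prod_mem fun i _ => h1 i _) r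
    | add p q hp hq => exact T.add_mem (hp trivial) (hq trivial)
  have : Algebra.FormallySmooth k 𝓡 := by
    rw [Algebra.FormallySmooth.iff_comp_surjective]
    intro S _ _ J hJ φ
    choose ψ hψ using fun i : Fin n => Algebra.FormallySmooth.comp_surjective (R := k) (A := A) J hJ (φ.comp (sgl i))
    refine ⟨comb ψ, PiTensorProduct.algHom_ext fun i => ?_⟩
    ext a
    simp only [AlgHom.comp_apply, comb_single]
    exact AlgHom.congr_fun (hψ i) a
  exact { formallySmooth := inferInstance, finitePresentation := Algebra.FinitePresentation.of_finiteType.1 inferInstance }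

variable [IsAlgClosed k] [IsDomain A] [Algebra.Smooth k A]

theorem sgl_ne_sgl {a : A} (ha : a ∉ (algebraMap k A).range) {i j : Fin n} (hij : i ≠ j) :
    sgl i a ≠ sgl j a := by
  obtain ⟨χ, -⟩ := Groth.VarietyBC.exists_algHom_ne_zero (k := k) (A := A) (a := 1)
    (fun h => one_ne_zero h.eq_zero)
  intro he
  let h : Fin n → A →ₐ[k] A := fun l => if l = i then AlgHom.id k A else (Algebra.ofId k A).comp χ
  have := congrArg (comb h) he
  rw [comb_single, comb_single] at this
  simp only [h, if_pos, if_neg hij.symm, AlgHom.id_apply, AlgHom.comp_apply, Algebra.ofId_apply] at this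
  exact ha ⟨χ a, this.symm⟩

/-- Merge the second index of a pair into the first. -/
def merge (p : Fin n × Fin n) : Fin n → Fin n := fun l => if l = p.2 then p.1 else l

theorem ker_merge (p : Fin n × Fin n) :
    RingHom.ker (mapIdx (k := k) (A := A) (merge p)) = diag (k := k) (A := A) p.1 p.2 := by
  refine le_antisymm (fun z hz => ?_) (diag_le_ker _ ?_)
  · have h := sub_mapIdx_mem (merge p) (diag (k := k) (A := A) p.1 p.2) (fun l a => ?_) z
    · rwa [RingHom.mem_ker.1 hz, sub_zero] at h
    · by_cases hl : l = p.2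
      · subst hl
        rw [merge, if_pos rfl, ← Ideal.neg_mem_iff, neg_sub]
        exact Ideal.subset_span ⟨a, rfl⟩
      · rw [merge, if_neg hl, sub_self]
        exact zero_mem _
  · congr 1
    by_cases h : p.1 = p.2 <;> simp [merge, h]

theorem diag_isPrime (p : Fin n × Fin n) : (diag (k := k) (A := A) p.1 p.2).IsPrime := by
  have := isDomain_piTensor (k := k) (A := A) n
  rw [← ker_merge]
  exact RingHom.ker_isPrime _

theorem not_diag_le {a : A} (ha : a ∉ (algebraMap k A).range) {p q : Fin n × Fin n} (hp : p.1 < p.2)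
    (hq : q.1 < q.2) (hne : p ≠ q) : ¬ diag (k := k) (A := A) q.1 q.2 ≤ diag (k := k) (A := A) p.1 p.2 := by
  intro hle
  have h := hle (Ideal.subset_span ⟨a, rfl⟩)
  rw [← ker_merge, RingHom.mem_ker, map_sub, mapIdx_single, mapIdx_single, sub_eq_zero] at h
  refine sgl_ne_sgl ha ?_ h
  unfold merge
  obtain ⟨p₁, p₂⟩ := p
  obtain ⟨q₁, q₂⟩ := q
  simp only [ne_eq, Prod.mk.injEq] at hne hp hq ⊢
  split_ifs <;> omega

theorem hasSk_two_piTensor : LocCoh.HasSk 2 𝓡 𝓡 := by
  have := smooth_piTensor (k := k) (A := A) (n := n)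
  have : IsNoetherianRing 𝓡 := Algebra.FiniteType.isNoetherianRing k 𝓡
  have hreg := Groth.Agent.S9408.isRegularRing_of_smooth k 𝓡
  refine ((Groth.Calg1.normal_iff (R := 𝓡)).1 fun P _ => ?_).2
  have := isRegularRing_iff.mp hreg P
  exact ⟨Groth.Ega4Algebra1.isDomain_of_isRegularLocalRing _,
    Groth.Ega4Algebra1.isIntegrallyClosed_of_isRegularLocalRing _⟩

end Groth.DiagIdealH
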